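import Cfsg.Agent.J4C.S.Cert

set_option autoImplicit false
set_option Elab.async false
set_option maxRecDepth 100000
set_option linter.all false

namespace Cfsg.Agent.J4C.B
open Cfsg.Agent.CGT

noncomputable def dF0 : BT Fct := (.node 18 (.node 9 (.node 4 (.node 2 (.node 1 (.leaf ⟨0, 0, false, [0], [], []⟩) (.leaf ⟨0, 0, false, [2], [], []⟩)) (.node 1 (.leaf ⟨0, 0, false, [4], [], []⟩) (.leaf ⟨0, 0, false, [6], [], []⟩))) (.node 2 (.node 1 (.leaf ⟨0, 0, false, [8], [], []⟩) (.leaf ⟨0, 0, false, [10], [], []⟩)) (.node 1 (.leaf ⟨0, 0, false, [12], [], []⟩) (.node 1 (.leaf ⟨0, 0, false, [14], [], []⟩) (.leaf ⟨0, 0, false, [16], [], []⟩))))) (.node 4 (.node 2 (.node 1 (.leaf ⟨0, 0, false, [18], [], []⟩) (.leaf ⟨0, 1, true, [], [], []⟩)) (.node 1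 (.leaf ⟨1, 1, false, [9, 18, 0, 9, 12], [], [0, 1, 1]⟩) (.leaf ⟨1, 1, false, [3, 6, 14, 17, 13, 6, 16], [], [0, 3, 1]⟩))) (.node 2 (.node 1 (.leaf ⟨1, 1, false, [7, 10, 8, 2, 19, 11], [], [0, -1, 6]⟩) (.leaf ⟨1, 1, false, [18], [], [0, 2, 1]⟩)) (.node 1 (.leaf ⟨1, 1, true, [6, 2, 14, 8, 17, 4, 11], [18, 17, 10, 13, 6, 16, 18, 0], [1, 2, 3, -1]⟩) (.node 1 (.leaf ⟨1, 2, true, [0, 2], [], []⟩) (.leaf ⟨2, 2, false, [15, 5, 12, 11, 16, 8, 5], [], [0, 3, 3]⟩)))))) (.node 9 (.node 4 (.node 2 (.node 1 (.leaf ⟨2, 2, false, [19, 6, 11, 17, 7, 11, 9, 0], [], [0, 0, -10]⟩) (.leaf ⟨2, 2, false, [13, 10, 12, 3, 4, 17, 18], [], [0, -10, -5]⟩)) (.node 1 (.leaf ⟨2, 1, true, [11, 0, 17, 0, 13, 19, 17], [11, 3, 11, 17, 12, 6, 15, 3], [2, -5, 9, -2]⟩) (.leaf ⟨2,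 2, false, [13, 2, 6, 13, 16, 3, 16], [], [-3, 10, -15, 2]⟩))) (.node 2 (.node 1 (.leaf ⟨2, 2, true, [16, 12, 7, 18, 0, 16, 8, 3], [11, 6, 19, 7, 10, 14, 10, 2], [1, -3, 5, -1]⟩) (.leaf ⟨1, 3, true, [2], [], []⟩)) (.node 1 (.leaf ⟨3, 3, false, [16, 8, 7, 12, 8, 7, 19], [], [0, 4, -9]⟩) (.node 1 (.leaf ⟨3, 3, false, [14, 8, 14, 0, 9, 16, 7, 3], [], [0, 4, 4]⟩) (.leaf ⟨3, 3, false, [5, 13, 11, 13, 5, 2, 17], [], [0, -1, 3]⟩))))) (.node 5 (.node 2 (.node 1 (.leaf ⟨3, 2, true, [7, 8, 2, 6, 19, 10, 14, 13], [6, 15, 8, 10, 5], [1, -12, 31, -1]⟩) (.leaf ⟨2, 3, true, [14, 2, 18, 10, 6, 11, 12], [12, 15, 11, 18, 7, 7, 8, 2], [-2, 22, -26, 1]⟩)) (.node 1 (.leaf ⟨3, 3, false, [9, 14, 7, 13, 19, 13, 8, 0], [], [-3, 1, -23, 2]⟩) (.node 1 (.leaf ⟨3, 3, true,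 [13, 3, 4, 14, 9, 13, 2, 16], [12, 0, 7, 8, 15, 4, 8, 4], [1, -1, 11, -1]⟩) (.leaf ⟨3, 3, true, [11, 3, 7, 16, 3, 14, 11], [19, 15, 13, 6, 3, 15], [7, -29, 27, -5]⟩)))) (.node 2 (.node 1 (.leaf ⟨3, 3, true, [18, 6, 10, 8, 5, 7, 19, 3], [10, 15, 0, 19, 10, 17, 2], [-8, 17, -13, 5]⟩) (.leaf ⟨3, 3, false, [7, 9, 10, 7, 3, 14, 3], [], [-12, 33, -50, 8]⟩)) (.node 1 (.leaf ⟨2, 2, false, [10, 8, 17, 4, 7, 12, 19, 0], [], [27, -74, 123, -18]⟩) (.node 1 (.leaf ⟨1, 3, false, [8, 15, 3, 12, 10, 17, 8, 11], [], [32, -69, 153, -21]⟩) (.leaf ⟨1, 1, true, [2], [10, 16, 9, 18, 7, 16, 2, 0], [-32, 69, -153, 21]⟩)))))))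
noncomputable def dd : Dce := ⟨11, S.m_ts, [5, 2, 1, 0], [], [], [-1], [[11, 19, 15, 5], [5, 19, 4, 19]], [[11, 19, 15, 5], [5, 19, 4, 19]], [[0, 1], [0, 0, 1]], [[[8], [10, 5, 11, 7, 2, 18, 5, 0], [16, 8, 10, 15, 19, 14, 12, 3]], [[], []]], [[0, 0, 0, 1], [1]], dF0, [0, 10, 16, 23], []⟩
theorem dd_c0 : dd.checks [⟨1, [], 0, 0, []⟩, ⟨1, [], 0, 0, []⟩, ⟨1, [], 0, 0, []⟩, ⟨1, [], 0, 0, []⟩, ⟨1, [], 0, 0, []⟩, ⟨1, [], 0, 0, []⟩, ⟨1, [], 0, 0, []⟩, ⟨1, [], 0, 0, []⟩, ⟨1, [], 0, 0, []⟩, ⟨1, [], 0, 0, []⟩, ⟨0, [], 0, 0, []⟩, ⟨3, [20, 13, 6, 15, 11, 2, 9, 21], 1, 0, [[], [2, 2, 1, 2, 2, 1, 3, 3, 0, 3, 0, 0]]⟩, ⟨3, [20, 5, 17, 13, 16, 14, 16, 10, 3, 21], 1, 0, [[], [2, 2, 0, 3, 3, 1, 2, 2, 0, 0, 3, 0]]⟩, ⟨3, [20, 11, 19, 2, 8, 17, 16, 10, 7, 21], 1,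 0, [[], [0, 2, 1, 2, 2, 1, 1, 2, 2, 2, 0]]⟩, ⟨3, [20, 18, 9, 16, 17, 8, 21], 1, 0, [[], [0, 2, 1, 1, 1, 3, 0, 0, 0, 2, 0]]⟩, ⟨2, [25, 22, 24, 20, 16, 11, 21], 0, 1, [[], [3, 0, 3, 0, 0, 2, 2, 1, 3, 1, 1], [0, 3, 1, 1, 1, 3, 1, 1, 3, 0]]⟩, ⟨0, [], 0, 0, []⟩, ⟨3, [32, 28, 23, 23, 24, 29, 33], 1, 0, [[], [2, 2, 0, 2, 2, 0]]⟩, ⟨3, [32, 23, 26, 25, 28, 27, 28, 27, 23, 33], 1, 0, [[], [0, 3, 0, 3, 1, 2, 1, 3, 3]]⟩, ⟨3, [32, 25, 29, 29, 27, 24, 23, 33], 1, 0, [[], [0, 2, 2, 2, 1, 1, 1, 1, 2, 1, 1, 1]]⟩, ⟨2, [34, 32, 29, 24, 27, 31], 0, 1, [[], [0, 0, 2, 0, 2, 1, 3, 3, 1, 1, 2], [1, 3, 3, 0, 0, 0, 3, 1, 1, 3, 0, 0]]⟩, ⟨3, [41, 27, 22, 24, 33], 1, 0, [[], [1, 1, 1, 3, 0, 3, 1, 2, 0, 3, 0, 0]]⟩, ⟨2, [32, 27, 28, 23, 33], 0, 2, [[], [2, 0, 2, 0, 3, 0,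 0, 3, 3], [2, 2, 2, 2, 1, 1, 3, 1, 1, 3, 0]]⟩, ⟨0, [], 0, 0, []⟩, ⟨3, [46, 28, 22, 25, 27, 24, 27, 28, 24, 47], 1, 0, [[], [2, 1, 3, 1, 3, 1, 1, 3, 1, 2, 1]]⟩, ⟨3, [46, 26, 26, 22, 27, 29, 27, 23, 28, 26, 47], 1, 0, [[], [0, 0, 3, 0, 0, 2, 1, 3, 3, 0, 0]]⟩, ⟨3, [46, 29, 24, 22, 28, 23, 29, 23, 47], 1, 0, [[], [2, 0, 2, 1, 2, 2, 0, 2, 1, 1, 3]]⟩, ⟨2, [48, 48, 46, 27, 27, 23, 33], 0, 1, [[], [0, 2, 0, 3, 1, 2, 2, 2, 1, 2], [2, 0, 3, 3, 1, 3, 3, 3, 0, 0, 0]]⟩, ⟨3, [55, 35, 42, 39, 43, 34], 1, 0, [[], []]⟩, ⟨3, [56, 42, 38, 37, 42, 34, 36, 43, 35, 57], 1, 0, [[], [0, 2, 2, 0, 3, 3, 1, 3, 3, 1, 3, 0]]⟩, ⟨2, [48, 52, 46, 28, 25, 27, 29, 23, 47], 0, 1, [[], [2, 2, 0, 3, 0, 3, 1, 1, 2, 1], [1, 1, 2, 0, 3, 0, 0, 2, 2, 0]]⟩, ⟨2, [50, 56, 34, 42, 38, 42,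 54], 0, 0, [[], [1, 3, 3, 3, 0, 0, 2, 0], [3, 3, 0, 2, 0, 3, 1, 2, 1, 3]]⟩, ⟨3, [63, 51, 49, 49], 1, 0, [[], []]⟩, ⟨3, [64, 52, 48, 58, 60, 58, 48, 53, 60], 0, 0, [[3, 0, 3, 1, 2, 2, 0, 0, 0, 2, 0], [2, 0, 3, 3, 1, 2, 2, 2, 0, 2, 0], [0, 0, 2, 0, 2, 1, 1, 3, 0]]⟩, ⟨3, [54, 67, 51, 49, 59, 53, 53, 67, 55], 1, 0, [[], [3, 1, 1, 3, 0, 0, 2, 1, 2, 2]]⟩, ⟨3, [60, 67, 59, 67, 59, 46], 1, 0, [[], [0, 0, 3, 1, 3, 0, 3, 1, 3, 1]]⟩, ⟨3, [71, 46], 1, 0, [[], []]⟩] 0 37 = true := by decide +kernel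
theorem dd_n0 : dd.nodeB S.m_ns 37 0 S.c_l0.O [0, 1, 2] 0 [0, 2, 4, 6, 8, 10, 12, 14, 16, 18] [20] [8, 7, 6, 5, 3, 2, 1, 7, 4, 8, 3, 5, 6, 9] = true := by decide +kernel
theorem dd_n1 : dd.nodeB S.m_ns 37 0 S.c_l0.O [0, 1, 2] 1 [22, 24, 26, 28] [21, 30, 32, 72] [3, 3, 3, 0, 3, 2, 3, 1, 3, 0, 3, 3, 1, 3, 0, 3, 3, 3, 0] = true := by decide +kernel
theorem dd_n2 : dd.nodeB S.m_ns 37 0 S.c_l0.O [0, 1, 2] 2 [34, 36, 38, 42, 68] [33, 44] [3, 4, 2, 0, 3, 4, 2, 0, 3, 2, 4, 3, 0, 2, 3] = true := by decide +kernel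
theorem dd_up {K Γ A : Type*} [Group K] [Group Γ] [CommGroup A] {X : Ctx K Γ A} (hy : dd.Hyp X S.m_ns) : dd.Upto X 37 :=
  ((Dce.Upto.zero).step hy dd_c0)
theorem dd_all {K Γ A : Type*} [Group K] [Group Γ] [CommGroup A] {X : Ctx K Γ A} (hy : dd.Hyp X S.m_ns) (hA : ∀ a, X.ι a ∈ X.H)
    (hL : ∀ h, X.φ h 0 = 0 → h ∈ gw X.γ dd.LW) (hO : ∀ h, (S.c_l0.O).testBit (X.φ h 0) = true) :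
    ∀ d ∈ [0, 1, 2], dd.Closed X [0, 1, 2] d := by
  simp only [List.forall_mem_cons, List.not_mem_nil, IsEmpty.forall_iff, implies_true, and_true]
  exact ⟨Dce.nodeB_sound hy (dd_up hy) hA (by decide +kernel) hL hO dd_n0,
    Dce.nodeB_sound hy (dd_up hy) hA (by decide +kernel) hL hO dd_n1,
    Dce.nodeB_sound hy (dd_up hy) hA (by decide +kernel) hL hO dd_n2⟩

end Cfsg.Agent.J4C.B
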